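import Mathlib
import Groth.Agent.H68.Fppf.Nisnevich

/-!
# Points with a rational section ("completely decomposed" points)

`HasRatSection f y` : the morphism `f : X ⟶ Y` has a section over `Spec κ(y)`.  Equivalently there
is a point `x` over `y` with trivial residue field extension.
-/

set_option autoImplicit false
universe u
open CategoryTheory CategoryTheory.Limits AlgebraicGeometry

namespace Groth.Agent.H68.CD

/-- `f` has a section over the residue field of `y`. -/
def HasRatSection {X Y : Scheme.{u}} (f : X ⟶ Y) (y : Y) : Prop :=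
  ∃ σ : Spec (Y.residueField y) ⟶ X, σ ≫ f = Y.fromSpecResidueField y

theorem hasRatSection_of_point {X Y : Scheme.{u}} (f : X ⟶ Y) (x : X)
    (hb : Function.Bijective (f.residueFieldMap x)) : HasRatSection f (f x) := by
  have : IsIso (f.residueFieldMap x) := (ConcreteCategory.isIso_iff_bijective _).mpr hb
  refine ⟨Spec.map (inv (f.residueFieldMap x)) ≫ X.fromSpecResidueField x, ?_⟩
  rw [Category.assoc, ← Scheme.Hom.SpecMap_residueFieldMap_fromSpecResidueField,
    ← Spec.map_comp_assoc, IsIso.hom_inv_id, Spec.map_id, Category.id_comp]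

theorem HasRatSection.exists_point {X Y : Scheme.{u}} {f : X ⟶ Y} {y : Y}
    (h : HasRatSection f y) : ∃ x : X, f x = y ∧ Function.Bijective (f.residueFieldMap x) := by
  obtain ⟨σ, hσ⟩ := h
  have hσ' : σ ≫ f = Spec.map (𝟙 (Y.residueField y)) ≫ Y.fromSpecResidueField y := by
    rw [hσ, Spec.map_id, Category.id_comp]
  have hiso := Groth.Agent.H68.Fppf.isIso_residueFieldMap_of_section' (K := Y.residueField y) f y
    (𝟙 (Y.residueField y)) σ hσ'
  refine ⟨σ (IsLocalRing.closedPoint (Y.residueField y)), ?_,
    (ConcreteCategory.isIso_iff_bijective _).mp hiso⟩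
  rw [← Scheme.Hom.comp_apply, hσ, Scheme.fromSpecResidueField_apply]

theorem hasRatSection_iff {X Y : Scheme.{u}} (f : X ⟶ Y) (y : Y) :
    HasRatSection f y ↔ ∃ x : X, f x = y ∧ Function.Bijective (f.residueFieldMap x) := by
  refine ⟨fun h => h.exists_point, ?_⟩
  rintro ⟨x, rfl, hb⟩
  exact hasRatSection_of_point f x hb

/-- Rational sections are stable under base change. -/
theorem HasRatSection.of_isPullback {X Y X' Y' : Scheme.{u}} {f : X ⟶ Y} {g : Y' ⟶ Y}
    {fst : X' ⟶ X} {snd : X' ⟶ Y'} (sq : IsPullback fst snd f g) {y' : Y'}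
    (h : HasRatSection f (g y')) : HasRatSection snd y' := by
  obtain ⟨σ, hσ⟩ := h
  refine ⟨sq.lift (Spec.map (g.residueFieldMap y') ≫ σ) (Y'.fromSpecResidueField y') ?_,
    sq.lift_snd _ _ _⟩
  rw [Category.assoc, hσ, Scheme.Hom.SpecMap_residueFieldMap_fromSpecResidueField]

/-- A lift through `f` of a morphism `z` with trivial residue field extension at `w` gives a
rational section of `f` at `z w`. -/
theorem HasRatSection.of_lift {X Y Z : Scheme.{u}} {f : X ⟶ Y} (z : Z ⟶ Y) (t : Z ⟶ X)
    (ht : t ≫ f = z) (w : Z) (hw : Function.Bijective (z.residueFieldMap w)) :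
    HasRatSection f (z w) := by
  obtain ⟨σ, hσ⟩ := hasRatSection_of_point z w hw
  exact ⟨σ ≫ t, by rw [Category.assoc, ht, hσ]⟩

/-- The residue field extensions of a preimmersion are trivial. -/
theorem bijective_residueFieldMap_of_isPreimmersion {Z Y : Scheme.{u}} (z : Z ⟶ Y)
    [IsPreimmersion z] (w : Z) : Function.Bijective (z.residueFieldMap w) := by
  refine ⟨(z.residueFieldMap w).hom.injective, ?_⟩
  intro k
  obtain ⟨a, rfl⟩ := Z.residue_surjective w k
  obtain ⟨b, rfl⟩ := z.stalkMap_surjective w a
  refine ⟨(Y.residue (z w)).hom b, ?_⟩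
  exact congrFun (congrArg (fun φ => ⇑(CommRingCat.Hom.hom φ))
    (Scheme.residue_residueFieldMap z w)) b

/-- The range of an immersion with a lift through `f` consists of points with rational
sections. -/
theorem HasRatSection.of_lift_isImmersion {X Y Z : Scheme.{u}} {f : X ⟶ Y} (z : Z ⟶ Y)
    [IsImmersion z] (t : Z ⟶ X) (ht : t ≫ f = z) {y : Y} (hy : y ∈ Set.range ⇑z) :
    HasRatSection f y := by
  obtain ⟨w, rfl⟩ := hy
  exact HasRatSection.of_lift z t ht w (bijective_residueFieldMap_of_isPreimmersion z w)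

end Groth.Agent.H68.CD
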