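import Mathlib
import Groth.Agent.H24.LimitBaseChange
import Groth.Agent.H68.CD.RatSection

/-!
# Descending a lift to a finite stage of a cofiltered limit (helper68)
-/

set_option autoImplicit false
universe u
open CategoryTheory CategoryTheory.Limits AlgebraicGeometry

namespace Groth.Agent.H68.CD

open Groth.Agent.H24

/-- rational sections of a base change `pullback.snd f0 p` pull back along `g`. -/
theorem hasRatSection_snd_of_isPullback {X0 Y0 X Y Y' : Scheme.{u}} {f0 : X0 ⟶ Y0} {p : Y ⟶ Y0}
    {pX : X ⟶ X0} {f : X ⟶ Y} (sq : IsPullback pX f f0 p) (g : Y' ⟶ Y) (p' : Y' ⟶ Y0)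
    (hp : g ≫ p = p') {y' : Y'} (h : HasRatSection f (g y')) :
    HasRatSection (pullback.snd f0 p') y' := by
  subst hp
  have big : IsPullback (pullback.fst f0 (g ≫ p)) (pullback.snd f0 (g ≫ p)) f0 (g ≫ p) :=
    IsPullback.of_hasPullback _ _
  let l : pullback f0 (g ≫ p) ⟶ X := sq.lift (pullback.fst _ _) (pullback.snd _ _ ≫ g)
    (by rw [Category.assoc, pullback.condition])
  have hl1 : l ≫ pX = pullback.fst f0 (g ≫ p) := sq.lift_fst _ _ _
  have hl2 : l ≫ f = pullback.snd f0 (g ≫ p) ≫ g := sq.lift_snd _ _ _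
  have left : IsPullback l (pullback.snd f0 (g ≫ p)) f g := by
    refine IsPullback.of_right ?_ hl2 sq
    rw [hl1]
    exact big
  exact HasRatSection.of_isPullback left h

variable {J : Type u} [SmallCategory J] [IsCofiltered J] (E : J ⥤ Scheme.{u}) (cE : Cone E)
  (hcE : IsLimit cE) [∀ {i j : J} (f : i ⟶ j), IsAffineHom (E.map f)]

omit [IsCofiltered J] in
theorem isAffineHom_pullbackDiagram_map (j : J) {W : Scheme.{u}} (ι : W ⟶ E.obj j)
    {φ ψ : Over j} (b : φ ⟶ ψ) : IsAffineHom ((pullbackDiagram E j ι).map b) :=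
  MorphismProperty.of_isPullback (P := @IsAffineHom) (isPullback_pullbackDiagram_map E j ι b).flip
    inferInstance

omit [IsCofiltered J] in
theorem compactSpace_pullbackDiagram_obj (j : J) {W : Scheme.{u}} (ι : W ⟶ E.obj j)
    [CompactSpace W] (φ : Over j) : CompactSpace ((pullbackDiagram E j ι).obj φ) := by
  have h1 : IsAffineHom (E.map φ.hom) := inferInstance
  have h2 : IsAffineHom (pullback.snd (E.map φ.hom) ι) :=
    MorphismProperty.pullback_snd (P := @IsAffineHom) _ _ h1
  change CompactSpace ↥(pullback (E.map φ.hom) ι)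
  exact QuasiCompact.compactSpace_of_compactSpace (pullback.snd (E.map φ.hom) ι)

omit [IsCofiltered J] in
theorem quasiSeparatedSpace_pullbackDiagram_obj (j : J) {W : Scheme.{u}} (ι : W ⟶ E.obj j)
    [QuasiSeparatedSpace W] (φ : Over j) :
    QuasiSeparatedSpace ((pullbackDiagram E j ι).obj φ) := by
  have h1 : IsAffineHom (E.map φ.hom) := inferInstance
  have h2 : IsAffineHom (pullback.snd (E.map φ.hom) ι) :=
    MorphismProperty.pullback_snd (P := @IsAffineHom) _ _ h1
  change QuasiSeparatedSpace ↥(pullback (E.map φ.hom) ι)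
  exact quasiSeparatedSpace_of_quasiSeparated (pullback.snd (E.map φ.hom) ι)

include hcE in
/-- A morphism from the base change to the limit of `W ⟶ E_j` into an lfp `X0 ⟶ Y0` (over `Y0`)
descends, over `Y0`, to a finite stage. -/
theorem exists_stage_lift {X0 Y0 : Scheme.{u}} (f0 : X0 ⟶ Y0) [LocallyOfFinitePresentation f0]
    (t0 : E ⟶ (Functor.const J).obj Y0) (j : J) {W : Scheme.{u}} (ι : W ⟶ E.obj j)
    [CompactSpace W] [QuasiSeparatedSpace W] (a : pullback (cE.π.app j) ι ⟶ X0)
    (ha : a ≫ f0 = pullback.fst (cE.π.app j) ι ≫ cE.π.app j ≫ t0.app j) :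
    ∃ (χ : Over j) (g : pullback (E.map χ.hom) ι ⟶ X0),
      g ≫ f0 = pullback.fst (E.map χ.hom) ι ≫ t0.app χ.left := by
  let E' := pullbackDiagram E j ι
  let cE' := pullbackCone E cE j ι
  have hcE' : IsLimit cE' := isLimitPullbackCone E cE j ι hcE
  have ht0 : ∀ χ : Over j, E.map χ.hom ≫ t0.app j = t0.app χ.left := by
    intro χ
    have := t0.naturality χ.hom
    simpa using this
  let t' : E' ⟶ (Functor.const (Over j)).obj Y0 :=
    { app := fun χ => pullback.fst (E.map χ.hom) ι ≫ t0.app χ.left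
      naturality := by
        intro χ χ' b
        simp only [Functor.const_obj_obj, Functor.const_obj_map, Category.comp_id]
        rw [pullbackDiagram_map_fst_assoc]
        congr 1
        have := t0.naturality b.left
        simpa using this }
  have : ∀ {φ ψ : Over j} (b : φ ⟶ ψ), IsAffineHom (E'.map b) := fun b =>
    isAffineHom_pullbackDiagram_map E j ι b
  have : ∀ φ : Over j, CompactSpace (E'.obj φ) := fun φ =>
    compactSpace_pullbackDiagram_obj E j ι φ
  have : ∀ φ : Over j, QuasiSeparatedSpace (E'.obj φ) := fun φ =>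
    quasiSeparatedSpace_pullbackDiagram_obj E j ι φ
  have ha' : cE'.π ≫ t' = (Functor.const (Over j)).map (a ≫ f0) := by
    ext χ
    simp only [NatTrans.comp_app, Functor.const_obj_obj, Functor.const_map_app, t', cE']
    rw [pullbackCone_π_fst_assoc, ha, ← ht0 χ, Cone.w_assoc]
    rfl
  obtain ⟨χ, g, -, hg⟩ :=
    Scheme.exists_π_app_comp_eq_of_locallyOfFinitePresentation E' t' f0 cE' hcE' a ha'
  exact ⟨χ, g, hg⟩

end Groth.Agent.H68.CD
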