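import Mathlib

/-!
# Spreading out a section at a point (ring level)

`A → B` finitely presented, `ι : A → K` a map to a field all of whose elements are fractions of
elements of `A`, `φ : B → K` over `A`.  Then there are `g ∈ A` with `ι g ≠ 0`, a finite set
`T ⊆ ker ι` and an `A`-algebra map `B → A_g / (T) A_g`.
-/

namespace Groth.Agent.H68.CD

universe u

open scoped Classical

/-- common denominator for finitely many fractions in a field. -/
theorem exists_common_denom {A K : Type u} [CommRing A] [Field K] (ι : A →+* K)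
    (hι : ∀ k : K, ∃ a s : A, ι s ≠ 0 ∧ k * ι s = ι a) {n : ℕ} (k : Fin n → K) :
    ∃ (g : A) (a : Fin n → A), ι g ≠ 0 ∧ ∀ i, k i * ι g = ι (a i) := by
  choose a s hs h using fun i => hι (k i)
  refine ⟨∏ j, s j, fun i => a i * ∏ j ∈ Finset.univ.erase i, s j, ?_, fun i => ?_⟩
  · rw [map_prod]
    exact Finset.prod_ne_zero_iff.mpr fun j _ => hs j
  · rw [← Finset.mul_prod_erase Finset.univ s (Finset.mem_univ i), map_mul, map_mul, ← mul_assoc,
      h i]

/-- the prime `q` lies in the image of `Spec (A_g / I A_g)` when `g ∉ q` and `I ≤ q`. -/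
theorem mem_range_comap {A : Type u} [CommRing A] (g : A) (I : Ideal A) (q : PrimeSpectrum A)
    (hg : g ∉ q.asIdeal) (hI : I ≤ q.asIdeal) :
    q ∈ Set.range (PrimeSpectrum.comap ((Ideal.Quotient.mk
      (I.map (algebraMap A (Localization.Away g)))).comp (algebraMap A (Localization.Away g)))) := by
  have h1 : q ∈ Set.range (PrimeSpectrum.comap (algebraMap A (Localization.Away g))) := by
    rw [PrimeSpectrum.localization_away_comap_range (Localization.Away g) g]
    exact hg
  obtain ⟨q', rfl⟩ := h1
  have h2 : q' ∈ Set.range (PrimeSpectrum.comap (Ideal.Quotient.mk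
      (I.map (algebraMap A (Localization.Away g))))) := by
    rw [_root_.range_comap_of_surjective _ _ Ideal.Quotient.mk_surjective,
      Ideal.mk_ker, PrimeSpectrum.mem_zeroLocus, SetLike.coe_subset_coe, Ideal.map_le_iff_le_comap]
    exact hI
  obtain ⟨q'', rfl⟩ := h2
  exact ⟨q'', rfl⟩

theorem exists_spread {A B K : Type u} [CommRing A] [CommRing B] [Field K]
    (α : A →+* B) (hα : α.FinitePresentation) (ι : A →+* K)
    (hι : ∀ k : K, ∃ a s : A, ι s ≠ 0 ∧ k * ι s = ι a)
    (φ : B →+* K) (hφ : φ.comp α = ι) :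
    ∃ (g : A) (T : Finset A), ι g ≠ 0 ∧ (∀ a ∈ T, ι a = 0) ∧
      ∃ ψ : B →+* (Localization.Away g ⧸
          (Ideal.span (T : Set A)).map (algebraMap A (Localization.Away g))),
        ψ.comp α = (Ideal.Quotient.mk _).comp (algebraMap A (Localization.Away g)) := by
  algebraize [α]
  obtain ⟨n, f, hf, hker⟩ := Algebra.FinitePresentation.out (R := A) (A := B)
  obtain ⟨g, a, hg, ha⟩ := exists_common_denom ι hι (fun i => φ (f (MvPolynomial.X i)))
  -- the map `A_g → K`
  have hgu : IsUnit (ι g) := Ne.isUnit hg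
  let ιg : Localization.Away g →+* K := IsLocalization.Away.lift g hgu
  have hιg : ιg.comp (algebraMap A (Localization.Away g)) = ι :=
    IsLocalization.Away.lift_comp g hgu
  -- the evaluation `A[X] → A_g`
  let b : Fin n → Localization.Away g := fun i =>
    algebraMap A _ (a i) * IsLocalization.Away.invSelf g
  have hb : ∀ i, ιg (b i) = φ (f (MvPolynomial.X i)) := by
    intro i
    have h1 : ιg (b i) * ι g = ι (a i) := by
      have : ι g = ιg (algebraMap A _ g) := by rw [← RingHom.comp_apply, hιg]
      rw [this, ← map_mul]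
      simp only [b]
      rw [mul_assoc, mul_comm (IsLocalization.Away.invSelf g), IsLocalization.Away.mul_invSelf,
        mul_one, ← RingHom.comp_apply, hιg]
    exact mul_right_cancel₀ hg (h1.trans (ha i).symm)
  let χ : MvPolynomial (Fin n) A →+* Localization.Away g :=
    MvPolynomial.eval₂Hom (algebraMap A (Localization.Away g)) b
  have hχ : ιg.comp χ = φ.comp f.toRingHom := by
    apply MvPolynomial.ringHom_ext
    · intro r
      simp only [RingHom.comp_apply, χ, MvPolynomial.coe_eval₂Hom, MvPolynomial.eval₂_C]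
      rw [← RingHom.comp_apply ιg, hιg, ← hφ]
      simp [RingHom.algebraMap_toAlgebra]
    · intro i
      simp only [RingHom.comp_apply, χ, MvPolynomial.coe_eval₂Hom, MvPolynomial.eval₂_X]
      exact hb i
  -- the kernel of `ιg` is generated by `ker ι`
  have hkerιg : RingHom.ker ιg = (RingHom.ker ι).map (algebraMap A (Localization.Away g)) := by
    rw [← hιg, ← RingHom.comap_ker,
      IsLocalization.map_under (Submonoid.powers g) (Localization.Away g)]
  have hmem : ∀ r ∈ RingHom.ker f.toRingHom,
      χ r ∈ (RingHom.ker ι).map (algebraMap A (Localization.Away g)) := by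
    intro r hr
    rw [← hkerιg, RingHom.mem_ker, ← RingHom.comp_apply, hχ, RingHom.comp_apply,
      (RingHom.mem_ker).mp hr, map_zero]
  obtain ⟨s, hs⟩ := hker
  have hfin : ∀ r ∈ s, ∃ T : Finset A, (∀ a ∈ T, ι a = 0) ∧
      χ r ∈ (Ideal.span (T : Set A)).map (algebraMap A (Localization.Away g)) := by
    intro r hr
    have h1 := hmem r (hs ▸ Ideal.subset_span hr)
    rw [Ideal.map, Ideal.span] at h1
    obtain ⟨T', hT', hrT'⟩ := Submodule.mem_span_finite_of_mem_span h1
    obtain ⟨T, hT, rfl⟩ := Finset.subset_set_image_iff.mp hT'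
    refine ⟨T, fun a ha => (RingHom.mem_ker).mp (hT ha), ?_⟩
    rw [Ideal.map_span]
    simpa using hrT'
  choose! Tf hTf1 hTf2 using hfin
  refine ⟨g, s.biUnion Tf, hg, ?_, ?_⟩
  · intro a ha
    obtain ⟨r, hr, har⟩ := Finset.mem_biUnion.mp ha
    exact hTf1 r hr a har
  · set J := (Ideal.span ((s.biUnion Tf : Finset A) : Set A)).map
      (algebraMap A (Localization.Away g)) with hJ
    have hle : RingHom.ker f.toRingHom ≤ RingHom.ker ((Ideal.Quotient.mk J).comp χ) := by
      rw [← hs, Ideal.span_le]
      intro r hr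
      rw [SetLike.mem_coe, RingHom.mem_ker, RingHom.comp_apply, Ideal.Quotient.eq_zero_iff_mem]
      refine Ideal.map_mono (Ideal.span_mono ?_) (hTf2 r hr)
      intro x hx
      exact Finset.mem_biUnion.mpr ⟨r, hr, hx⟩
    refine ⟨RingHom.liftOfSurjective f.toRingHom hf ⟨(Ideal.Quotient.mk J).comp χ, hle⟩, ?_⟩
    ext r
    have : α r = f.toRingHom (MvPolynomial.C r) := by
      simp [RingHom.algebraMap_toAlgebra]
    rw [RingHom.comp_apply, this, RingHom.liftOfRightInverse_comp_apply]
    simp [χ]

end Groth.Agent.H68.CD
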