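import Mathlib
import Groth.Agent.H68.CD.RingSpread

/-!
# Spreading out a rational section at a point to a f.p. locally closed subscheme
-/

namespace Groth.Agent.H68.CD

universe u

open AlgebraicGeometry CategoryTheory CategoryTheory.Limits TopologicalSpace Topology

/-- every element of the residue field at a point of an affine open is a fraction of sections. -/
theorem exists_fraction {Y : Scheme.{u}} {U : Y.Opens} (hU : IsAffineOpen U) (y : Y) (hy : y ∈ U)
    (k : Y.residueField y) :
    ∃ a s : Γ(Y, U), (Y.evaluation U y hy).hom s ≠ 0 ∧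
      k * (Y.evaluation U y hy).hom s = (Y.evaluation U y hy).hom a := by
  obtain ⟨e, rfl⟩ := Y.residue_surjective y k
  let _ := Y.presheaf.algebra_section_stalk ⟨y, hy⟩
  have hloc := hU.isLocalization_stalk ⟨y, hy⟩
  obtain ⟨⟨a, s⟩, he⟩ := IsLocalization.surj (hU.primeIdealOf ⟨y, hy⟩).asIdeal.primeCompl e
  have hunit : IsUnit (algebraMap Γ(Y, U) (Y.presheaf.stalk y) s) :=
    IsLocalization.map_units (Y.presheaf.stalk y) s
  refine ⟨a, s, ?_, ?_⟩
  · have : IsUnit ((Y.residue y).hom (algebraMap Γ(Y, U) (Y.presheaf.stalk y) s)) :=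
      hunit.map (Y.residue y).hom
    exact this.ne_zero
  · have := congrArg (Y.residue y).hom he
    rw [map_mul] at this
    exact this

theorem exists_local {X Y : Scheme.{u}} (f : X ⟶ Y) [LocallyOfFinitePresentation f]
    [QuasiSeparatedSpace ↑Y] (x : X) (hb : Function.Bijective (f.residueFieldMap x)) :
    ∃ (Z : Scheme.{u}) (z : Z ⟶ Y) (t : Z ⟶ X) (S : Set Y), t ≫ f = z ∧ IsImmersion z ∧
      LocallyOfFinitePresentation z ∧ QuasiCompact z ∧ QuasiSeparated z ∧ f x ∈ S ∧
      S ⊆ Set.range ⇑z ∧ IsOpen[constructibleTopology Y] S := by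
  -- affine opens
  obtain ⟨U, hU, hyU, -⟩ := Opens.isBasis_iff_nbhd.mp Y.isBasis_affineOpens
    (show f x ∈ (⊤ : Y.Opens) from trivial)
  obtain ⟨W, hW, hxW, hWU⟩ := Opens.isBasis_iff_nbhd.mp X.isBasis_affineOpens
    (show x ∈ f ⁻¹ᵁ U from hyU)
  let α : Γ(Y, U) →+* Γ(X, W) := (f.appLE U W hWU).hom
  have hα : α.FinitePresentation := HasRingHomProperty.appLE @LocallyOfFinitePresentation f ‹_›
    ⟨U, hU⟩ ⟨W, hW⟩ hWU
  let ι : Γ(Y, U) →+* Y.residueField (f x) := (Y.evaluation U (f x) hyU).hom
  let eq : Y.residueField (f x) ≃+* X.residueField x :=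
    RingEquiv.ofBijective (f.residueFieldMap x).hom hb
  let φ : Γ(X, W) →+* Y.residueField (f x) :=
    eq.symm.toRingHom.comp (X.evaluation W x hxW).hom
  have hφ : φ.comp α = ι := by
    ext a
    simp only [φ, α, ι, RingHom.comp_apply, RingEquiv.toRingHom_eq_coe, RingHom.coe_coe]
    rw [RingEquiv.symm_apply_eq]
    have heq : ∀ k, eq k = (f.residueFieldMap x).hom k := fun k => rfl
    rw [heq]
    rw [Scheme.evaluation_naturality_apply, Scheme.Hom.appLE]
    simp only [CommRingCat.hom_comp, RingHom.comp_apply]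
    simp only [Scheme.evaluation, CommRingCat.hom_comp, RingHom.comp_apply]
    congr 1
    exact TopCat.Presheaf.germ_res_apply _ _ _ _ _
  obtain ⟨g, T, hg, hT, ψ, hψ⟩ := exists_spread α hα ι (exists_fraction hU (f x) hyU) φ hφ
  let C := Localization.Away g ⧸
    (Ideal.span (T : Set Γ(Y, U))).map (algebraMap Γ(Y, U) (Localization.Away g))
  let γ : Γ(Y, U) →+* C := (Ideal.Quotient.mk _).comp (algebraMap Γ(Y, U) (Localization.Away g))
  let z : Spec (.of C) ⟶ Y := Spec.map (CommRingCat.ofHom γ) ≫ hU.fromSpec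
  let t : Spec (.of C) ⟶ X := Spec.map (CommRingCat.ofHom ψ) ≫ hW.fromSpec
  let S : Set Y := (Y.basicOpen g : Set Y) ∩ ⋂ a ∈ T, ((Y.basicOpen a : Set Y))ᶜ
  refine ⟨Spec (.of C), z, t, S, ?_, ?_, ?_, inferInstance, inferInstance, ?_, ?_, ?_⟩
  · -- t ≫ f = z
    simp only [t, z, Category.assoc]
    rw [← hU.SpecMap_appLE_fromSpec f hW hWU, ← Spec.map_comp_assoc]
    congr 2
    ext a
    exact congrFun (congrArg DFunLike.coe hψ) a
  · -- immersion
    have h1 : Spec.map (CommRingCat.ofHom γ) =
        Spec.map (CommRingCat.ofHom (Ideal.Quotient.mk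
          ((Ideal.span (T : Set Γ(Y, U))).map (algebraMap Γ(Y, U) (Localization.Away g))))) ≫
        Spec.map (CommRingCat.ofHom (algebraMap Γ(Y, U) (Localization.Away g))) := by
      rw [← Spec.map_comp]; rfl
    have : IsClosedImmersion (Spec.map (CommRingCat.ofHom (Ideal.Quotient.mk
          ((Ideal.span (T : Set Γ(Y, U))).map (algebraMap Γ(Y, U) (Localization.Away g)))))) :=
      IsClosedImmersion.spec_of_surjective _ Ideal.Quotient.mk_surjective
    simp only [z]
    rw [h1]
    infer_instance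
  · -- lfp
    have h1 : Spec.map (CommRingCat.ofHom γ) =
        Spec.map (CommRingCat.ofHom (Ideal.Quotient.mk
          ((Ideal.span (T : Set Γ(Y, U))).map (algebraMap Γ(Y, U) (Localization.Away g))))) ≫
        Spec.map (CommRingCat.ofHom (algebraMap Γ(Y, U) (Localization.Away g))) := by
      rw [← Spec.map_comp]; rfl
    have : LocallyOfFinitePresentation (Spec.map (CommRingCat.ofHom (Ideal.Quotient.mk
          ((Ideal.span (T : Set Γ(Y, U))).map (algebraMap Γ(Y, U) (Localization.Away g)))))) := by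
      rw [HasRingHomProperty.Spec_iff (P := @LocallyOfFinitePresentation)]
      refine RingHom.FinitePresentation.of_surjective _ Ideal.Quotient.mk_surjective ?_
      rw [CommRingCat.hom_ofHom, Ideal.mk_ker]
      exact Ideal.FG.map (Submodule.fg_span (Finset.finite_toSet T)) _
    simp only [z]
    rw [h1]
    infer_instance
  · -- f x ∈ S
    refine ⟨?_, ?_⟩
    · exact (Y.evaluation_ne_zero_iff_mem_basicOpen (f x) hyU g).mp hg
    · simp only [Set.mem_iInter, Set.mem_compl_iff, SetLike.mem_coe]
      intro a ha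
      exact (Y.evaluation_eq_zero_iff_notMem_basicOpen (f x) hyU a).mp (hT a ha)
  · -- S ⊆ range z
    rintro q ⟨hq1, hq2⟩
    have hqU : q ∈ U := Y.basicOpen_le g hq1
    obtain ⟨q', rfl⟩ : q ∈ Set.range ⇑hU.fromSpec := by rw [hU.range_fromSpec]; exact hqU
    have hg' : g ∉ q'.asIdeal := by
      have : q' ∈ hU.fromSpec ⁻¹ᵁ Y.basicOpen g := hq1
      rw [hU.fromSpec_preimage_basicOpen] at this
      exact this
    have hT' : Ideal.span (T : Set Γ(Y, U)) ≤ q'.asIdeal := by
      rw [Ideal.span_le]
      intro a ha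
      simp only [Set.mem_iInter, Set.mem_compl_iff, SetLike.mem_coe] at hq2
      have h1 := hq2 a ha
      have : q' ∉ hU.fromSpec ⁻¹ᵁ Y.basicOpen a := h1
      rw [hU.fromSpec_preimage_basicOpen] at this
      by_contra h
      exact this h
    obtain ⟨r, hr⟩ := mem_range_comap g _ q' hg' hT'
    refine ⟨r, ?_⟩
    simp only [z, Scheme.Hom.comp_apply]
    congr 1
  · -- open in the constructible topology
    refine @IsOpen.inter _ (constructibleTopology Y) _ _ ?_ ?_
    · exact (hU.basicOpen g).isCompact.isOpen_constructibleTopology_of_isOpen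
        (Y.basicOpen g).isOpen
    · refine @Set.Finite.isOpen_biInter _ _ (constructibleTopology Y) _ _ (Finset.finite_toSet T) ?_
      intro a _
      refine IsCompact.isOpen_constructibleTopology_of_isClosed ?_ ?_
      · rw [compl_compl]
        exact (hU.basicOpen a).isCompact
      · exact (Y.basicOpen a).isOpen.isClosed_compl

end Groth.Agent.H68.CD
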