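import Mathlib
import Groth.Agent.S1440
import Groth.Agent.S4815
import Groth.Agent.H24.LimitCons
import Groth.Agent.H68.CD.StageLift

/-!
# Complete decomposition descends to a finite stage of a cofiltered limit (helper68)
-/

set_option autoImplicit false
universe u
open CategoryTheory CategoryTheory.Limits AlgebraicGeometry Topology

namespace Groth.Agent.H68.CD

open Groth.Agent.H24

variable {I : Type u} [SmallCategory I] [IsCofiltered I] (D : I ⥤ Scheme.{u}) (c : Cone D)
  (hc : IsLimit c) [∀ {i j : I} (a : i ⟶ j), IsAffineHom (D.map a)] (i0 : I)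
  {X0 Y0 : Scheme.{u}} (f0 : X0 ⟶ Y0) (q0 : Y0 ⟶ D.obj i0)

/-- the structure map of the `φ`-th stage to `Y0`. -/
noncomputable abbrev stP (φ : Over i0) : (pullbackDiagram D i0 q0).obj φ ⟶ Y0 :=
  pullback.snd (D.map φ.hom) q0

/-- the locus of points with a rational section at stage `φ`. -/
def cdSet (φ : Over i0) : Set ((pullbackDiagram D i0 q0).obj φ) :=
  {y | HasRatSection (pullback.snd f0 (stP D i0 q0 φ)) y}

omit [IsCofiltered I] [∀ {i j : I} (a : i ⟶ j), IsAffineHom (D.map a)] in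
theorem preimage_cdSet_subset {φ' φ : Over i0} (b : φ' ⟶ φ) :
    (pullbackDiagram D i0 q0).map b ⁻¹' cdSet D i0 f0 q0 φ ⊆ cdSet D i0 f0 q0 φ' := by
  intro y' hy'
  exact hasRatSection_snd_of_isPullback (IsPullback.of_hasPullback f0 (stP D i0 q0 φ))
    ((pullbackDiagram D i0 q0).map b) (stP D i0 q0 φ') (pullbackDiagram_map_snd D i0 q0 b) hy'

/-- the natural transformation from the stage diagram to the constant diagram `Y0`. -/
noncomputable def stT : pullbackDiagram D i0 q0 ⟶ (Functor.const (Over i0)).obj Y0 where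
  app φ := stP D i0 q0 φ
  naturality φ' φ b := by
    simp only [Functor.const_obj_obj, Functor.const_obj_map, Category.comp_id]
    exact pullbackDiagram_map_snd D i0 q0 b

include hc in
set_option backward.isDefEq.respectTransparency false in
theorem exists_stage_of_immersion [CompactSpace Y0] [QuasiSeparatedSpace Y0]
    [LocallyOfFinitePresentation f0]
    {Z : Scheme.{u}} (z : Z ⟶ (pullbackCone D c i0 q0).pt) [IsImmersion z]
    [LocallyOfFinitePresentation z] [QuasiCompact z]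
    (t : Z ⟶ X0) (ht : t ≫ f0 = z ≫ pullback.snd (c.π.app i0) q0) :
    ∃ (φ : Over i0) (R : Set ((pullbackDiagram D i0 q0).obj φ)), IsConstructible R ∧
      R ⊆ cdSet D i0 f0 q0 φ ∧ Set.range ⇑z ⊆ (pullbackCone D c i0 q0).π.app φ ⁻¹' R := by
  let D' := pullbackDiagram D i0 q0
  let c' := pullbackCone D c i0 q0
  have hc' : IsLimit c' := isLimitPullbackCone D c i0 q0 hc
  have hAff : ∀ {φ ψ : Over i0} (b : φ ⟶ ψ), IsAffineHom (D'.map b) := fun b =>
    isAffineHom_pullbackDiagram_map D i0 q0 b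
  have hAff' : ∀ (φ ψ : Over i0) (b : φ ⟶ ψ), IsAffineHom (D'.map b) := fun _ _ b => hAff b
  have hCpt : ∀ φ : Over i0, CompactSpace (D'.obj φ) := fun φ =>
    compactSpace_pullbackDiagram_obj D i0 q0 φ
  have hQS : ∀ φ : Over i0, QuasiSeparatedSpace (D'.obj φ) := fun φ =>
    quasiSeparatedSpace_pullbackDiagram_obj D i0 q0 φ
  obtain ⟨j, -, Zj, ιj, qk, himm, hlfp, hqc, hpb⟩ :=
    Groth.Agent.S4815.result D' c' hc' (Over.mk (𝟙 i0)) z
  have : CompactSpace Zj := QuasiCompact.compactSpace_of_compactSpace ιj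
  have : QuasiSeparatedSpace Zj := quasiSeparatedSpace_of_quasiSeparated ιj
  let e : Z ≅ pullback (c'.π.app j) ιj := hpb.flip.isoPullback
  have he1 : e.hom ≫ pullback.fst (c'.π.app j) ιj = z := hpb.flip.isoPullback_hom_fst
  have he1' : e.inv ≫ z = pullback.fst (c'.π.app j) ιj := by
    rw [← he1, Iso.inv_hom_id_assoc]
  let a : pullback (c'.π.app j) ιj ⟶ X0 := e.inv ≫ t
  have ha : a ≫ f0 = pullback.fst (c'.π.app j) ιj ≫ c'.π.app j ≫ (stT D i0 q0).app j := by
    simp only [a, Category.assoc]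
    rw [ht, reassoc_of% he1']
    congr 1
    exact (pullbackCone_π_snd D c i0 q0 j).symm
  obtain ⟨χ, g, hg⟩ := exists_stage_lift D' c' hc' f0 (stT D i0 q0) j ιj a ha
  let zφ : pullback (D'.map χ.hom) ιj ⟶ D'.obj χ.left := pullback.fst (D'.map χ.hom) ιj
  have hzφ1 : IsImmersion zφ := MorphismProperty.pullback_fst (P := @IsImmersion) _ _ himm
  have hzφ2 : LocallyOfFinitePresentation zφ :=
    MorphismProperty.pullback_fst (P := @LocallyOfFinitePresentation) _ _ hlfp
  have hzφ3 : QuasiCompact zφ := MorphismProperty.pullback_fst (P := @QuasiCompact) _ _ hqc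
  refine ⟨χ.left, Set.range ⇑zφ, ?_, ?_, ?_⟩
  · rw [← Set.image_univ]
    exact zφ.isConstructible_image IsConstructible.univ
  · intro y hy
    have hg' : g ≫ f0 = zφ ≫ stP D i0 q0 χ.left := hg
    exact HasRatSection.of_lift_isImmersion zφ (pullback.lift g zφ hg') (pullback.lift_snd _ _ _) hy
  · rintro _ ⟨w, rfl⟩
    have h1 : z ≫ c'.π.app χ.left =
        e.hom ≫ (pullbackCone D' c' j ιj).π.app χ ≫ zφ := by
      rw [pullbackCone_π_fst D' c' j ιj χ, reassoc_of% he1]
    refine ⟨((pullbackCone D' c' j ιj).π.app χ) (e.hom w), ?_⟩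
    have := congrArg (fun φ => (φ : Z ⟶ D'.obj χ.left) w) h1
    simp only [Scheme.Hom.comp_apply] at this
    exact this.symm

include hc in
set_option backward.isDefEq.respectTransparency false in
theorem exists_stage_cd [CompactSpace Y0] [QuasiSeparatedSpace Y0]
    [LocallyOfFinitePresentation f0]
    (hcd : ∀ y : (pullbackCone D c i0 q0).pt,
      HasRatSection (pullback.snd f0 (pullback.snd (c.π.app i0) q0)) y) :
    ∃ φ : Over i0, cdSet D i0 f0 q0 φ = Set.univ := by
  classical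
  let D' := pullbackDiagram D i0 q0
  let c' := pullbackCone D c i0 q0
  have hc' : IsLimit c' := isLimitPullbackCone D c i0 q0 hc
  have hAff : ∀ {φ ψ : Over i0} (b : φ ⟶ ψ), IsAffineHom (D'.map b) := fun b =>
    isAffineHom_pullbackDiagram_map D i0 q0 b
  have hCpt : ∀ φ : Over i0, CompactSpace (D'.obj φ) := fun φ =>
    compactSpace_pullbackDiagram_obj D i0 q0 φ
  have hQS : ∀ φ : Over i0, QuasiSeparatedSpace (D'.obj φ) := fun φ =>
    quasiSeparatedSpace_pullbackDiagram_obj D i0 q0 φ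
  let Pc : c'.pt ⟶ Y0 := pullback.snd (c.π.app i0) q0
  have hPcAff : IsAffineHom Pc := by
    have : IsAffineHom (c.π.app i0) := isAffineHom_π_app D c hc i0
    exact MorphismProperty.pullback_snd (P := @IsAffineHom) _ _ this
  have : CompactSpace c'.pt := QuasiCompact.compactSpace_of_compactSpace Pc
  have : QuasiSeparatedSpace c'.pt := quasiSeparatedSpace_of_quasiSeparated Pc
  let F : pullback f0 Pc ⟶ c'.pt := pullback.snd f0 Pc
  obtain ⟨n, Z, z, hsurj, hZ⟩ := Groth.Agent.S1440.result F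
    (fun y => (hasRatSection_iff F y).mp (hcd y))
  have hstage : ∀ k : Fin n, ∃ (φ : Over i0) (R : Set (D'.obj φ)), IsConstructible R ∧
      R ⊆ cdSet D i0 f0 q0 φ ∧ Set.range ⇑(z k) ⊆ c'.π.app φ ⁻¹' R := by
    intro k
    obtain ⟨h1, h2, h3, -, s, hs⟩ := hZ k
    have hsz : s ≫ pullback.fst F (z k) ≫ F = z k := by
      rw [pullback.condition, reassoc_of% hs]
    refine exists_stage_of_immersion D c hc i0 f0 q0 (z k)
      (s ≫ pullback.fst F (z k) ≫ pullback.fst f0 Pc) ?_
    have h4 := hsz =≫ Pc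
    simp only [Category.assoc] at h4 ⊢
    rw [pullback.condition]
    exact h4
  choose φ R hRc hRcd hRz using hstage
  obtain ⟨φI, hφI⟩ := IsCofiltered.inf_objs_exists (Finset.univ.image φ)
  have hb : ∀ k : Fin n, Nonempty (φI ⟶ φ k) := fun k =>
    hφI (Finset.mem_image_of_mem φ (Finset.mem_univ k))
  let b : ∀ k : Fin n, φI ⟶ φ k := fun k => (hb k).some
  let RI : Set (D'.obj φI) := ⋃ k : Fin n, D'.map (b k) ⁻¹' R k
  have hRIc : IsConstructible RI :=
    IsConstructible.iUnion fun k => (D'.map (b k)).isConstructible_preimage (hRc k)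
  have hRIcd : RI ⊆ cdSet D i0 f0 q0 φI := by
    intro y hy
    obtain ⟨k, hk⟩ := Set.mem_iUnion.mp hy
    exact preimage_cdSet_subset D i0 f0 q0 (b k) (hRcd k hk)
  have hRItop : c'.π.app φI ⁻¹' RI = Set.univ := by
    rw [Set.eq_univ_iff_forall]
    intro y
    obtain ⟨k, hk⟩ := hsurj y
    have h1 : c'.π.app (φ k) y ∈ R k := hRz k hk
    rw [← c'.w (b k), Scheme.Hom.comp_apply] at h1
    exact Set.mem_iUnion.mpr ⟨k, h1⟩
  have hempty : c'.π.app φI ⁻¹' ((RIᶜ ∩ ((⊤ : (D'.obj φI).Opens) : Set (D'.obj φI))) \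
      ((⊥ : (D'.obj φI).Opens) : Set (D'.obj φI))) = ∅ := by
    rw [Set.eq_empty_iff_forall_notMem]
    rintro y ⟨⟨hy, -⟩, -⟩
    have : y ∈ c'.π.app φI ⁻¹' RI := by rw [hRItop]; trivial
    exact hy this
  obtain ⟨φ', b', hb'⟩ := exists_preimage_eq_empty_of_isConstructible D' c' hc' hRIc.compl ⊤ ⊥
    isCompact_univ hempty
  refine ⟨φ', ?_⟩
  rw [Set.eq_univ_iff_forall]
  intro y
  apply preimage_cdSet_subset D i0 f0 q0 b'
  apply hRIcd
  by_contra hy
  have : y ∈ (D'.map b') ⁻¹' ((RIᶜ ∩ ((⊤ : (D'.obj φI).Opens) : Set (D'.obj φI))) \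
      ((⊥ : (D'.obj φI).Opens) : Set (D'.obj φI))) := ⟨⟨hy, trivial⟩, fun h => h⟩
  rw [hb'] at this
  exact this

end Groth.Agent.H68.CD
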